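import Groth.Agent.EmbLift.Step
import Groth.Agent.W7Alg.Subscheme
import Groth.Agent.S11762
import Groth.Agent.KoszulLib.SchKer
import Groth.Agent.DefLift.SmallExt
import Mathlib

/-!
# Embedded lifts over a complete discrete valuation ring
-/
set_option autoImplicit false
set_option linter.style.haveILetI false
set_option backward.isDefEq.respectTransparency false
set_option backward.isDefEq.respectTransparency.types false
set_option maxHeartbeats 1000000
universe u

open CategoryTheory CategoryTheory.Limits AlgebraicGeometry Opposite TopologicalSpace Abelian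
open Groth.Agent.QC IsLocalRing

noncomputable section

namespace Groth.Agent.EmbLift

variable {R : Type u} [CommRing R] {P : Scheme.{u}} (f : P ⟶ Spec (CommRingCat.of R))

/-- The structure map on the sections over an open. -/
def baseMap (U : P.Opens) : R →+* Γ(P, U) :=
  ((f.appLE ⊤ U le_top).hom).comp (Scheme.ΓSpecIso (CommRingCat.of R)).inv.hom

lemma res_baseMap {U V : P.Opens} (h : V ≤ U) (a : R) : resO P h (baseMap f U a) = baseMap f V a := by
  change (f.appLE ⊤ U le_top ≫ P.presheaf.map (homOfLE h).op) _ = _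
  rw [Scheme.Hom.appLE_map]
  rfl

/-- The kernel of the preimage of a closed subscheme of the base. -/
theorem ker_app_base {R' : Type u} [CommRing R'] (φ : R →+* R') (hφ : Function.Surjective φ) {P₀ : Scheme.{u}}
    (π₀ : P₀ ⟶ P) (q : P₀ ⟶ Spec (CommRingCat.of R')) (h : IsPullback π₀ q f (Spec.map (CommRingCat.ofHom φ)))
    (U : P.affineOpens) : RingHom.ker (π₀.app U.1).hom = (RingHom.ker φ).map (baseMap f U.1) := by
  haveI : IsClosedImmersion (Spec.map (CommRingCat.ofHom φ)) := IsClosedImmersion.spec_of_surjective _ hφ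
  rw [(KoszulLib.ker_app_of_isPullback h.flip ⟨⊤, isAffineOpen_top _⟩ inferInstance U le_top).2,
    DefLift.ker_app_specMap, CommRingCat.hom_ofHom, Ideal.map_map]
  rfl

variable [IsDomain R] [IsDiscreteValuationRing R] [IsAdicComplete (maximalIdeal R) R]

/-- A regularly embedded subscheme of the closed fibre with unobstructed embedded deformations lifts. -/
theorem exists_flat_lift [IsProper f] [Flat f] {X₀ : Scheme.{u}}
    (ι₀ : X₀ ⟶ pullback f (Spec.map (CommRingCat.ofHom (residue R)))) (hι₀ : Mor2.IsRegularClosedImmersion ι₀)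
    [HasExt.{u} X₀.Modules] (hN : Subsingleton (Ext.{u} (Omega.conormal ι₀) (Coh.structureModule X₀) 1)) :
    ∃ (X : Scheme.{u}) (j : X ⟶ P) (i : X₀ ⟶ X), IsClosedImmersion j ∧ Flat (j ≫ f) ∧
      IsPullback i ι₀ j (pullback.fst f (Spec.map (CommRingCat.ofHom (residue R)))) := by
  obtain ⟨ϖ, hϖ⟩ := IsDiscreteValuationRing.exists_irreducible R
  let m := maximalIdeal R
  have hm : m = Ideal.span {ϖ} := hϖ.maximalIdeal_eq
  haveI := hι₀.1
  let res := Spec.map (CommRingCat.ofHom (residue R))
  haveI : IsClosedImmersion res := IsClosedImmersion.spec_of_surjective _ residue_surjective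
  let π₀ := pullback.fst f res
  let t : Γ(P, ⊤) := baseMap f ⊤ ϖ
  have hker : ∀ U : P.affineOpens, RingHom.ker (π₀.app U.1).hom = Ideal.span {resO P le_top t} := fun U => by
    rw [ker_app_base f (residue R) residue_surjective π₀ _ (IsPullback.of_hasPullback f res) U, ker_residue,
      show maximalIdeal R = Ideal.span {ϖ} from hm, Ideal.map_span, Set.image_singleton, res_baseMap]
  have hcut : IsCut π₀ t := by
    refine ⟨?_, hker, fun U b hb => ?_⟩
    · have h1 : Spec.map (CommRingCat.ofHom (residue R)) ≫ 𝟙 _ = res := Category.comp_id _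
      change (f.appLE ⊤ ⊤ le_top ≫ π₀.app ⊤).hom ((Scheme.ΓSpecIso (CommRingCat.of R)).inv.hom ϖ) = 0
      have h2 : f.appLE ⊤ ⊤ le_top ≫ π₀.app ⊤ = (π₀ ≫ f).appTop := by
        rw [Scheme.Hom.comp_appTop, Scheme.Hom.appLE]
        simp
      rw [h2, pullback.condition, Scheme.Hom.comp_appTop]
      change (pullback.snd f res).appTop (res.appTop ((Scheme.ΓSpecIso _).inv ϖ)) = 0
      have h3 := congr($(Scheme.ΓSpecIso_inv_naturality (CommRingCat.ofHom (residue R))) ϖ)
      simp only [ConcreteCategory.comp_apply] at h3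
      rw [← h3]
      have h4 : (CommRingCat.ofHom (residue R)) ϖ = 0 := (residue_eq_zero_iff ϖ).2 ((show maximalIdeal R = _ from hm).ge (Ideal.mem_span_singleton_self ϖ))
      rw [h4, map_zero, map_zero]
    · letI : Algebra R Γ(P, U.1) := (baseMap f U.1).toAlgebra
      haveI : Module.Flat R Γ(P, U.1) := by
        refine RingHom.flat_algebraMap_iff.1 (RingHom.Flat.comp ?_ (HasRingHomProperty.appLE (P := @Flat) f inferInstance
          ⟨⊤, isAffineOpen_top _⟩ U le_top))
        exact RingHom.Flat.of_bijective (ConcreteCategory.bijective_of_isIso (Scheme.ΓSpecIso (CommRingCat.of R)).inv)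
      have h : IsSMulRegular Γ(P, U.1) ϖ := Module.Flat.isSMulRegular_of_isRegular (IsRegular.of_ne_zero hϖ.ne_zero)
      refine h (show ϖ • b = ϖ • (0 : Γ(P, U.1)) from ?_)
      rw [smul_zero, Algebra.smul_def, RingHom.algebraMap_toAlgebra, ← hb, res_baseMap]
  -- the lifts
  let c₀ := ι₀ ≫ π₀
  choose up hup hsup using fun (n : ℕ) (I : {I : P.IdealSheafData // IsLift π₀ t ι₀ n I}) =>
    exists_next hcut I.2 hι₀ hN
  let L : ∀ n, {I : P.IdealSheafData // IsLift π₀ t ι₀ n I} := fun n =>
    Nat.rec (motive := fun n => {I : P.IdealSheafData // IsLift π₀ t ι₀ n I}) ⟨c₀.ker, isLift_zero hcut⟩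
      (fun n I => ⟨up n I, hup n I⟩) n
  let I : ℕ → P.IdealSheafData := fun n => (L n).1
  haveI : ∀ n, IsClosedImmersion (CohB1.thickι f m n) := fun n => W7Alg.isClosedImmersion_thickι m f n
  have hK : ∀ n (U : P.affineOpens), (CohB1.thickι f m n).ker.ideal U = Ideal.span {resO P le_top t ^ (n + 1)} := fun n U => by
    rw [Scheme.Hom.ker_apply, ker_app_base f (Ideal.Quotient.mk (m ^ (n + 1))) Ideal.Quotient.mk_surjective
      (CohB1.thickι f m n) _ (IsPullback.of_hasPullback f (CohB1.specQuot m n)) U, Ideal.mk_ker, hm,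
      Ideal.span_singleton_pow, Ideal.map_span, Set.image_singleton, map_pow, res_baseMap]
  have hIK : ∀ n, I n = I (n + 1) ⊔ (CohB1.thickι f m n).ker := fun n =>
    Scheme.IdealSheafData.ext (funext fun U => by
      rw [Scheme.IdealSheafData.ideal_sup, Pi.sup_apply, hK]
      exact (hsup n (L n) U).symm)
  have hKI : ∀ n, (CohB1.thickι f m n).ker ≤ I n := fun n => (hIK n).symm ▸ le_sup_right
  let c : ∀ n, (I n).subscheme ⟶ P := fun n => (I n).subschemeι
  let d : ∀ n, (I n).subscheme ⟶ CohB1.thick f m n := fun n =>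
    IsClosedImmersion.lift (CohB1.thickι f m n) (c n) (by rw [Scheme.IdealSheafData.ker_subschemeι]; exact hKI n)
  have hd : ∀ n, d n ≫ CohB1.thickι f m n = c n := fun n => IsClosedImmersion.lift_fac _ _ _
  let p : ∀ n, (I n).subscheme ⟶ Spec (CommRingCat.of (R ⧸ m ^ (n + 1))) := fun n => d n ≫ CohB1.thickToBase f m n
  have hcp : ∀ n, c n ≫ f = p n ≫ CohB1.specQuot m n := fun n => by
    rw [← hd n, Category.assoc, Category.assoc]
    exact congrArg _ pullback.condition
  let tr : ∀ n, (I n).subscheme ⟶ (I (n + 1)).subscheme := fun n =>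
    Scheme.IdealSheafData.inclusion (le_sup_left.trans (hIK n).ge)
  have htr : ∀ n, tr n ≫ c (n + 1) = c n := fun n => Scheme.IdealSheafData.inclusion_subschemeι _
  haveI : ∀ n, IsClosedImmersion (tr n) := fun n => by
    haveI : IsClosedImmersion (tr n ≫ c (n + 1)) := by rw [htr]; infer_instance
    exact IsClosedImmersion.of_comp (tr n) (c (n + 1))
  have hker_tr : ∀ n, (tr n).ker = (I n).comap (c (n + 1)) := fun n => by
    have hpb : IsPullback (tr n) (𝟙 _) (c (n + 1)) (c n) :=
      IsPullback.of_isLimit' ⟨by rw [htr, Category.id_comp]⟩ (PullbackCone.IsLimit.mk _ (fun s => s.snd)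
        (fun s => (cancel_mono (c (n + 1))).1 (by rw [Category.assoc, htr, s.condition]))
        (fun s => Category.comp_id _) (fun s g _ hg => (Category.comp_id g).symm.trans hg))
    rw [← hpb.isoPullback_hom_fst, Scheme.Hom.ker_comp_of_isIso, Scheme.IdealSheafData.ker_fst_of_isClosedImmersion,
      Scheme.IdealSheafData.ker_subschemeι]
  have ht : ∀ n, IsPullback (tr n) (p n) (p (n + 1)) (CohB1.specQuotTrans m n) := fun n => by
    have hk : (tr n).ker = (CohB1.specQuot m n).ker.comap (p (n + 1) ≫ CohB1.specQuot m (n + 1)) := by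
      rw [← hcp, Scheme.IdealSheafData.comap_comp, ← ThickProp.ker_eq_comap (IsPullback.of_hasPullback f
        (CohB1.specQuot m n)), hker_tr, hIK n, Scheme.IdealSheafData.comap_sup]
      rw [show (I (n + 1)).comap (c (n + 1)) = ⊥ from eq_bot_iff.2 ((Scheme.IdealSheafData.map_gc _).l_le
        (by rw [Scheme.IdealSheafData.map_bot, Scheme.IdealSheafData.ker_subschemeι]))]
      exact bot_sup_eq _
    have hw : p n ≫ CohB1.specQuot m n = tr n ≫ p (n + 1) ≫ CohB1.specQuot m (n + 1) := by
      rw [← hcp, ← hcp, ← Category.assoc, htr]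
    haveI : IsClosedImmersion (CohB1.specQuot m (n + 1)) := W7Alg.isClosedImmersion_specQuot m (n + 1)
    have hw' : tr n ≫ p (n + 1) = p n ≫ CohB1.specQuotTrans m n := by
      rw [← cancel_mono (CohB1.specQuot m (n + 1)), Category.assoc, ← hw]
      simp only [Category.assoc, CohB1.specQuotTrans_specQuot]
    have hB : IsPullback (CohB1.specQuotTrans m n) (𝟙 _) (CohB1.specQuot m (n + 1)) (CohB1.specQuot m n) :=
      IsPullback.of_isLimit' ⟨by rw [CohB1.specQuotTrans_specQuot, Category.id_comp]⟩
        (PullbackCone.IsLimit.mk _ (fun s => s.snd)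
          (fun s => (cancel_mono (CohB1.specQuot m (n + 1))).1 (by
            rw [Category.assoc, CohB1.specQuotTrans_specQuot, s.condition]))
          (fun s => Category.comp_id _) (fun s g _ hg => (Category.comp_id g).symm.trans hg))
    refine IsPullback.of_bot ?_ hw' hB
    rw [Category.comp_id]
    exact (W7Alg.isPullback_of_ker (CohB1.specQuot m n) (p (n + 1) ≫ CohB1.specQuot m (n + 1)) (tr n) (p n) hw hk).flip
  have hp : IsProper (c 0 ≫ f) := inferInstance
  obtain ⟨W, j, w, hj, hjp, hwt, hwj, hwp⟩ := W7Alg.exists_closed_subscheme m f (fun n => (I n).subscheme) c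
    (fun n => inferInstance) p hcp tr htr ht hp
  haveI := hj
  haveI := hjp
  haveI : Flat (j ≫ f) := S11762.result R (j ≫ f) fun n => by
    show Flat (pullback.snd (j ≫ f) (CohB1.specQuot m n))
    rw [← (hwp n).isoPullback_inv_snd]
    haveI : Flat (p n) := by
      haveI : IsClosedImmersion (c n) := inferInstance
      refine HasRingHomProperty.of_iSup_eq_top (P := @Flat)
        (fun U : P.affineOpens => (⟨c n ⁻¹ᵁ U.1, U.2.preimage (c n)⟩ : (I n).subscheme.affineOpens)) ?_ fun U => ?_
      · rw [← Scheme.Hom.preimage_iSup, iSup_affineOpens_eq_top]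
        rfl
      · let χ := (Scheme.ΓSpecIso (CommRingCat.of (R ⧸ m ^ (n + 1)))).inv ≫ (p n).appLE ⊤ (c n ⁻¹ᵁ U.1) le_top
        have hχ : ∀ a : R, χ (Ideal.Quotient.mk (m ^ (n + 1)) a) = (c n).app U.1 (baseMap f U.1 a) := fun a => by
          have h3 := congr($(Scheme.ΓSpecIso_inv_naturality (CommRingCat.ofHom (Ideal.Quotient.mk (m ^ (n + 1))))) a)
          simp only [ConcreteCategory.comp_apply] at h3
          change (p n).appLE ⊤ (c n ⁻¹ᵁ U.1) le_top ((Scheme.ΓSpecIso _).inv (CommRingCat.ofHom (Ideal.Quotient.mk (m ^ (n + 1))) a)) = _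
          rw [h3]
          change (((CohB1.specQuot m n).app ⊤) ≫ (p n).appLE ⊤ (c n ⁻¹ᵁ U.1) le_top) _ =
            (f.appLE ⊤ U.1 le_top ≫ (c n).app U.1) _
          have key : ∀ (g : (I n).subscheme ⟶ Spec (CommRingCat.of R)), g = c n ≫ f →
              g.appLE ⊤ (c n ⁻¹ᵁ U.1) le_top = f.appLE ⊤ U.1 le_top ≫ (c n).app U.1 := by
            rintro g rfl
            rw [Scheme.Hom.app_eq_appLE, Scheme.Hom.appLE_comp_appLE]
          rw [← key _ (hcp n).symm, Scheme.Hom.comp_appLE]
          rfl
        have hkc : (I n).ideal U = RingHom.ker ((c n).app U.1).hom := ((I n).ker_subschemeι_app U).symm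
        let e : (Γ(P, U.1) ⧸ (I n).ideal U) ≃+* Γ((I n).subscheme, c n ⁻¹ᵁ U.1) :=
          (Ideal.quotEquivOfEq hkc).trans (RingHom.quotientKerEquivOfSurjective ((c n).app_surjective U.1 U.2))
        let ψ : R ⧸ Ideal.span {ϖ} ^ (n + 1) →+* Γ(P, U.1) ⧸ (I n).ideal U :=
          (e.symm.toRingHom.comp χ.hom).comp (Ideal.quotEquivOfEq (by rw [hm])).toRingHom
        have hψ : ψ.Flat := by
          refine ((L n).2 U).flat_quotient hϖ.prime (baseMap f U.1) (res_baseMap f le_top ϖ).symm ψ fun a => ?_
          show e.symm (χ (Ideal.Quotient.mk (m ^ (n + 1)) a)) = _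
          rw [hχ, RingEquiv.symm_apply_eq]
          rfl
        have hflat : χ.hom.Flat := by
          have h : χ.hom = (e.toRingHom.comp ψ).comp (Ideal.quotEquivOfEq (show m ^ (n + 1) = Ideal.span {ϖ} ^ (n + 1) by rw [hm])).toRingHom := by
            refine Ideal.Quotient.ringHom_ext (RingHom.ext fun a => ?_)
            simp [ψ]
          rw [h]
          exact RingHom.Flat.comp (RingHom.Flat.of_bijective (RingEquiv.bijective _))
            (RingHom.Flat.comp hψ (RingHom.Flat.of_bijective e.bijective))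
        rw [show (p n).appLE ⊤ (c n ⁻¹ᵁ U.1) le_top = (Scheme.ΓSpecIso _).hom ≫ χ by simp [χ]]
        exact RingHom.Flat.comp (RingHom.Flat.of_bijective (ConcreteCategory.bijective_of_isIso _)) hflat
    infer_instance
  -- the closed fibre
  let l : X₀ ⟶ (I 0).subscheme := IsClosedImmersion.lift (c 0) c₀ (by rw [Scheme.IdealSheafData.ker_subschemeι]; rfl)
  haveI : IsIso l := IsClosedImmersion.isIso_lift (c 0) c₀ (by rw [Scheme.IdealSheafData.ker_subschemeι]; rfl)
  have hl : l ≫ c 0 = c₀ := IsClosedImmersion.lift_fac _ _ _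
  refine ⟨W, j, l ≫ w 0, hj, inferInstance, ?_⟩
  let q : R ⧸ m ^ (0 + 1) →+* ResidueField R := Ideal.Quotient.factor (Ideal.pow_le_self (Nat.succ_ne_zero 0))
  have hq : Spec.map (CommRingCat.ofHom q) ≫ CohB1.specQuot m 0 = res := by
    rw [CohB1.specQuot, ← Spec.map_comp]
    congr 1
  haveI : IsIso (CommRingCat.ofHom q) := (ConcreteCategory.isIso_iff_bijective _).2 ⟨by
    show Function.Injective q
    rw [RingHom.injective_iff_ker_eq_bot, Ideal.Quotient.factor_ker,
      Ideal.map_eq_bot_iff_le_ker, Ideal.mk_ker, Nat.zero_add, pow_one],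
    Ideal.Quotient.factor_surjective (Ideal.pow_le_self (Nat.succ_ne_zero 0))⟩
  haveI : IsClosedImmersion (CohB1.specQuot m 0) := W7Alg.isClosedImmersion_specQuot m 0
  have hsq : IsPullback l (ι₀ ≫ pullback.snd f res) (p 0) (Spec.map (CommRingCat.ofHom q)) :=
    IsPullback.of_horiz_isIso ⟨by
      rw [← cancel_mono (CohB1.specQuot m 0), Category.assoc, ← hcp, ← Category.assoc, hl, Category.assoc,
        Category.assoc, Category.assoc, hq]
      exact congrArg _ pullback.condition⟩
  have h := hsq.paste_horiz (hwp 0)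
  rw [hq] at h
  exact IsPullback.of_bot h (by rw [Category.assoc, hwj, hl]) (IsPullback.of_hasPullback f res)

end Groth.Agent.EmbLift
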