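import Mathlib.RingTheory.Regular.RegularSequence
import Mathlib.RingTheory.Flat.Basic
import Mathlib.RingTheory.PrincipalIdealDomain
import Mathlib

/-!
# Ideals lifting a complete intersection over a uniformizer
-/
set_option autoImplicit false
set_option maxHeartbeats 1000000
universe u

open RingTheory.Sequence

namespace Groth.Agent.EmbLift

theorem mul_le_fst {B : Type u} [CommRing B] (I J : Ideal B) : I * J ≤ I :=
  Ideal.mul_le.2 fun _ ha b _ => I.mul_mem_right b ha

theorem mul_le_snd {B : Type u} [CommRing B] (I J : Ideal B) : I * J ≤ J :=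
  Ideal.mul_le.2 fun a _ _ hb => J.mul_mem_left a hb

variable {B C : Type u} [CommRing B] [CommRing C] {π : B →+* C} (hπ : Function.Surjective π) {t : B}
  (hker : RingHom.ker π = Ideal.span {t}) (ht : ∀ b : B, t * b = 0 → b = 0)

include hπ hker ht in
/-- An element regular in `B` stays regular modulo lifts of a sequence regular modulo it. -/
theorem regular_mod_lifts (gs : List B) (hgs : IsWeaklyRegular C (gs.map π)) :
    ∀ b : B, t * b ∈ Ideal.ofList gs → b ∈ Ideal.ofList gs := by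
  suffices h : ∀ i ≤ gs.length, ∀ b : B, t * b ∈ Ideal.ofList (gs.take i) → b ∈ Ideal.ofList (gs.take i) by
    simpa using h gs.length le_rfl
  intro i
  induction i with
  | zero =>
    intro _ b hb
    simp only [List.take_zero, Ideal.ofList_nil, Submodule.mem_bot] at hb ⊢
    exact ht b hb
  | succ i ih =>
    intro hi b hb
    have hi' : i < gs.length := hi
    rw [List.take_add_one, List.getElem?_eq_getElem hi', Option.toList_some, Ideal.ofList_append,
      Ideal.ofList_singleton] at hb ⊢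
    obtain ⟨j, hj, z, hz, hjz⟩ := Submodule.mem_sup.1 hb
    obtain ⟨c, rfl⟩ := Ideal.mem_span_singleton'.1 hz
    have hreg := (isWeaklyRegular_iff C _).1 hgs i (by simpa using hi')
    rw [isSMulRegular_quotient_iff_mem_of_smul_mem] at hreg
    have hmap : Ideal.ofList ((gs.map π).take i) • (⊤ : Submodule C C) = (Ideal.ofList (gs.take i)).map π := by
      rw [smul_eq_mul, Ideal.mul_top, Ideal.map_ofList, List.map_take]
    have hc : π c ∈ (Ideal.ofList (gs.take i)).map π := by
      rw [← hmap]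
      refine hreg (π c) ?_
      rw [hmap, smul_eq_mul, List.getElem_map, ← map_mul, mul_comm]
      have h0 : π (c * gs[i]) = - π j := by
        rw [eq_neg_iff_add_eq_zero, ← map_add, add_comm, hjz, map_mul,
          RingHom.mem_ker.1 (hker.ge (Ideal.mem_span_singleton_self t)), zero_mul]
      rw [h0]
      exact neg_mem (Ideal.mem_map_of_mem _ hj)
    obtain ⟨j', hj', hjc⟩ := (Ideal.mem_map_iff_of_surjective π hπ).1 hc
    obtain ⟨d, hd⟩ := Ideal.mem_span_singleton'.1 (hker.le (RingHom.mem_ker.2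
      (show π (c - j') = 0 by rw [map_sub, hjc, sub_self])))
    have hbd : t * (b - gs[i] * d) ∈ Ideal.ofList (gs.take i) := by
      rw [show t * (b - gs[i] * d) = j + gs[i] * j' by linear_combination -hjz - gs[i] * hd]
      exact add_mem hj (Ideal.mul_mem_left _ _ hj')
    rw [show b = (b - gs[i] * d) + gs[i] * d by ring]
    exact add_mem (Submodule.mem_sup_left (ih hi'.le _ hbd))
      (Submodule.mem_sup_right (Ideal.mul_mem_right _ _ (Ideal.mem_span_singleton_self _)))

/-- A level of a lift: an ideal containing `t^(n+1)`, reducing to `I₀`, flat modulo `t^(n+1)`. -/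
structure IsLevel (I₀ : Ideal B) (t : B) (n : ℕ) (I : Ideal B) : Prop where
  pow_mem : t ^ (n + 1) ∈ I
  sup_eq : I ⊔ Ideal.span {t} = I₀
  torsion : ∀ c, t * c ∈ I → c ∈ I ⊔ Ideal.span {t ^ n}

theorem isLevel_zero {I₀ : Ideal B} (h : t ∈ I₀) : IsLevel I₀ t 0 I₀ where
  pow_mem := by simpa using h
  sup_eq := sup_eq_left.2 (by rwa [Ideal.span_singleton_le_iff_mem])
  torsion c _ := by simp

variable {I₀ I : Ideal B} {n : ℕ} (hI : IsLevel I₀ t n I)

include hI in
theorem IsLevel.le : I ≤ I₀ := hI.sup_eq ▸ le_sup_left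

include hI in
theorem IsLevel.t_mem : t ∈ I₀ := hI.sup_eq ▸ Submodule.mem_sup_right (Ideal.mem_span_singleton_self t)

include hI in
/-- generators of a level -/
theorem IsLevel.le_gens (gs : List B) (hgs : ∀ g ∈ gs, g ∈ I) (h₀ : I₀ ≤ Ideal.ofList gs ⊔ Ideal.span {t}) :
    I ≤ Ideal.ofList gs ⊔ Ideal.span {t ^ (n + 1)} := by
  have hJ : Ideal.ofList gs ≤ I := Ideal.span_le.2 fun g hg => hgs g hg
  have key : I ≤ Ideal.ofList gs ⊔ Ideal.span {t ^ (n + 1)} ⊔ Ideal.span {t} * I := by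
    intro y hy
    obtain ⟨g, hg, z, hz, rfl⟩ := Submodule.mem_sup.1 (h₀ (hI.le hy))
    obtain ⟨c, rfl⟩ := Ideal.mem_span_singleton'.1 hz
    have htc : t * c ∈ I := by
      rw [mul_comm]
      simpa using sub_mem hy (hJ hg)
    obtain ⟨c₁, hc₁, z, hz, hcz⟩ := Submodule.mem_sup.1 (hI.torsion c htc)
    obtain ⟨d, rfl⟩ := Ideal.mem_span_singleton'.1 hz
    refine add_mem (Submodule.mem_sup_left (Submodule.mem_sup_left hg)) ?_
    rw [← hcz, add_mul]
    refine add_mem (Submodule.mem_sup_right ?_) (Submodule.mem_sup_left (Submodule.mem_sup_right ?_))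
    · rw [mul_comm c₁]
      exact Ideal.mul_mem_mul (Ideal.mem_span_singleton_self t) hc₁
    · exact Ideal.mem_span_singleton'.2 ⟨d, by rw [pow_succ]; ring⟩
  have h : ∀ j, I ≤ Ideal.ofList gs ⊔ Ideal.span {t ^ (n + 1)} ⊔ Ideal.span {t ^ j} * I := by
    intro j
    induction j with
    | zero => simp
    | succ j ih =>
      refine ih.trans (sup_le le_sup_left ?_)
      refine (Ideal.mul_mono_right key).trans ?_
      rw [Ideal.mul_sup, ← mul_assoc, Ideal.span_singleton_mul_span_singleton, ← pow_succ]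
      exact sup_le (le_trans (mul_le_snd _ _) le_sup_left) le_sup_right
  exact (h (n + 1)).trans (sup_le le_rfl
    (le_trans (mul_le_fst _ _) le_sup_right))

include hπ hker ht hI in
/-- The new direction injects. -/
theorem IsLevel.mem_of_pow_mul_mem (gs₀ : List C) (hgs₀ : IsWeaklyRegular C gs₀)
    (h₀ : I₀.map π = Ideal.ofList gs₀) (b : B) (hb : t ^ (n + 1) * b ∈ I₀ * I) : b ∈ I₀ := by
  have hle : ∀ c ∈ gs₀, ∃ g ∈ I, π g = c := fun c hc => by
    have hc' : c ∈ I₀.map π := by rw [h₀]; exact Ideal.subset_span hc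
    obtain ⟨g, hg, rfl⟩ := (Ideal.mem_map_iff_of_surjective π hπ).1 hc'
    rw [← hI.sup_eq] at hg
    obtain ⟨y, hy, z, hz, rfl⟩ := Submodule.mem_sup.1 hg
    exact ⟨y, hy, by rw [map_add, RingHom.mem_ker.1 (hker.ge hz), add_zero]⟩
  choose! g hgI hgπ using hle
  let gs := gs₀.map g
  have hmap : gs.map π = gs₀ := by
    rw [List.map_map]
    exact (List.map_congr_left fun c hc => hgπ c hc).trans (List.map_id gs₀)
  have hgsI : ∀ x ∈ gs, x ∈ I := fun x hx => by
    obtain ⟨c, hc, rfl⟩ := List.mem_map.1 hx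
    exact hgI c hc
  have hI₀ : I₀ ≤ Ideal.ofList gs ⊔ Ideal.span {t} := fun x hx => by
    have hx' : π x ∈ (Ideal.ofList gs).map π := by
      rw [Ideal.map_ofList, hmap, ← h₀]
      exact Ideal.mem_map_of_mem _ hx
    rw [← hker, ← Ideal.comap_map_of_surjective' π hπ]
    exact hx'
  have hI' := hI.le_gens gs hgsI hI₀
  have h1 : I₀ * I ≤ Ideal.ofList gs ⊔ Ideal.span {t ^ (n + 1 + 1)} := by
    refine (Ideal.mul_mono hI₀ hI').trans ?_
    rw [Ideal.sup_mul, Ideal.mul_sup, Ideal.mul_sup, Ideal.span_singleton_mul_span_singleton, ← pow_succ']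
    refine sup_le (sup_le ?_ ?_) (sup_le ?_ le_sup_right)
    · exact (mul_le_fst (Ideal.ofList gs) (Ideal.ofList gs)).trans le_sup_left
    · exact (mul_le_fst (Ideal.ofList gs) (Ideal.span {t ^ (n + 1)})).trans le_sup_left
    · exact (mul_le_snd (Ideal.span {t}) (Ideal.ofList gs)).trans le_sup_left
  obtain ⟨j, hj, z, hz, hjz⟩ := Submodule.mem_sup.1 (h1 hb)
  obtain ⟨a, rfl⟩ := Ideal.mem_span_singleton'.1 hz
  have hreg := regular_mod_lifts hπ hker ht gs (hmap.symm ▸ hgs₀)
  have hpow : ∀ (k : ℕ) (x : B), t ^ k * x ∈ Ideal.ofList gs → x ∈ Ideal.ofList gs := by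
    intro k
    induction k with
    | zero => simp
    | succ k ih => exact fun x hx => hreg x (ih (t * x) (by rwa [← mul_assoc, ← pow_succ]))
  have hx : b - t * a ∈ Ideal.ofList gs := hpow (n + 1) _ (by
    rw [show t ^ (n + 1) * (b - t * a) = j by linear_combination -hjz]; exact hj)
  rw [show b = (b - t * a) + t * a by ring]
  exact add_mem (hI.le (Ideal.span_le.2 (fun x hx => hgsI x hx) hx)) (Ideal.mul_mem_right _ _ hI.t_mem)

include hπ hker hI in
/-- The middle of the conormal sequence. -/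
theorem IsLevel.middle (y : B) (hy : y ∈ I) (hsq : π y ∈ (I₀.map π) ^ 2) :
    ∃ b : B, y - t ^ (n + 1) * b ∈ I₀ * I := by
  have hsq' : y ∈ I₀ * I₀ ⊔ Ideal.span {t} := by
    rw [← hker]
    have h : y ∈ ((I₀ * I₀).map π).comap π := by rw [Ideal.mem_comap, Ideal.map_mul, ← pow_two]; exact hsq
    rwa [Ideal.comap_map_of_surjective' π hπ] at h
  have h2 : y ∈ I₀ * I ⊔ Ideal.span {t} := by
    refine (sup_le (c := I₀ * I ⊔ Ideal.span {t}) ?_ le_sup_right) hsq'
    calc I₀ * I₀ = I₀ * (I ⊔ Ideal.span {t}) := by rw [hI.sup_eq]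
      _ ≤ _ := by rw [Ideal.mul_sup]; exact sup_le le_sup_left (le_trans (mul_le_snd _ _) le_sup_right)
  obtain ⟨k, hk, z, hz, hkz⟩ := Submodule.mem_sup.1 h2
  obtain ⟨c, rfl⟩ := Ideal.mem_span_singleton'.1 hz
  have htc : t * c ∈ I := by
    rw [show t * c = y - k by linear_combination hkz]
    exact sub_mem hy (mul_le_snd I₀ I hk)
  obtain ⟨c₁, hc₁, z, hz, hcz⟩ := Submodule.mem_sup.1 (hI.torsion c htc)
  obtain ⟨d, rfl⟩ := Ideal.mem_span_singleton'.1 hz
  refine ⟨d, ?_⟩
  rw [show y - t ^ (n + 1) * d = k + t * c₁ by linear_combination -hkz - t * hcz]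
  exact add_mem hk (Ideal.mul_mem_mul hI.t_mem hc₁)

include hI in
/-- Any level with the right reductions is a level. -/
theorem IsLevel.next {I' : Ideal B} (hle : I' ≤ I) (hpow : t ^ (n + 1 + 1) ∈ I')
    (hsup : I' ⊔ Ideal.span {t ^ (n + 1)} = I) (hcancel : ∀ h, t ^ (n + 1) * h ∈ I' → h ∈ I₀) :
    IsLevel I₀ t (n + 1) I' where
  pow_mem := hpow
  sup_eq := by
    refine le_antisymm (sup_le (hle.trans hI.le) ((Ideal.span_singleton_le_iff_mem _).2 hI.t_mem)) ?_
    rw [← hI.sup_eq, ← hsup, sup_assoc]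
    exact sup_le_sup_left (sup_le (Ideal.span_singleton_le_span_singleton.2 (dvd_pow_self t (by omega))) le_rfl) _
  torsion c hc := by
    obtain ⟨i, hi, z, hz, hcz⟩ := Submodule.mem_sup.1 (hI.torsion c (hle hc))
    obtain ⟨d, rfl⟩ := Ideal.mem_span_singleton'.1 hz
    rw [← hsup] at hi
    obtain ⟨i', hi', z, hz, hiz⟩ := Submodule.mem_sup.1 hi
    obtain ⟨e, rfl⟩ := Ideal.mem_span_singleton'.1 hz
    have hh : d + e * t ∈ I₀ := hcancel _ (by
      rw [show t ^ (n + 1) * (d + e * t) = t * c - t * i' by linear_combination t * hcz + t * hiz]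
      exact sub_mem hc (Ideal.mul_mem_left _ _ hi'))
    rw [← hI.sup_eq] at hh
    obtain ⟨w, hw, z, hz, hwz⟩ := Submodule.mem_sup.1 hh
    obtain ⟨v, rfl⟩ := Ideal.mem_span_singleton'.1 hz
    rw [show c = i' + (t ^ n * w + t ^ (n + 1) * v) by linear_combination -hcz - hiz - t ^ n * hwz]
    refine add_mem (Submodule.mem_sup_left hi') (add_mem ?_ ?_)
    · rw [hsup]; exact Ideal.mul_mem_left _ _ hw
    · exact Submodule.mem_sup_right (Ideal.mul_mem_right _ _ (Ideal.mem_span_singleton_self _))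

include hI in
theorem IsLevel.torsion_pow : ∀ j ≤ n + 1, ∀ c, t ^ j * c ∈ I → c ∈ I ⊔ Ideal.span {t ^ (n + 1 - j)} := by
  intro j
  induction j with
  | zero => exact fun _ c hc => Submodule.mem_sup_left (by simpa using hc)
  | succ j ih =>
    intro hj c hc
    obtain ⟨i, hi, z, hz, hiz⟩ := Submodule.mem_sup.1 (ih (by omega) (t * c) (by rwa [← mul_assoc, ← pow_succ]))
    obtain ⟨d, rfl⟩ := Ideal.mem_span_singleton'.1 hz
    have hn : n + 1 - j = (n - j) + 1 := by omega
    have htc : t * (c - d * t ^ (n - j)) ∈ I := by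
      rw [show t * (c - d * t ^ (n - j)) = i by rw [hn, pow_succ] at hiz; linear_combination -hiz]
      exact hi
    rw [show c = (c - d * t ^ (n - j)) + d * t ^ (n - j) by ring, show n + 1 - (j + 1) = n - j by omega]
    exact add_mem ((sup_le le_sup_left (le_sup_of_le_right (Ideal.span_singleton_le_span_singleton.2
      (pow_dvd_pow t (Nat.sub_le n j))))) (hI.torsion _ htc))
      (Submodule.mem_sup_right (Ideal.mul_mem_left _ _ (Ideal.mem_span_singleton_self _)))

/-- Divided torsion gives flatness over a chain ring. -/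
theorem flat_of_principal {S M : Type u} [CommRing S] [AddCommGroup M] [Module S M]
    (hS : ∀ J : Ideal S, ∃ a b : S, J = Ideal.span {a} ∧ a * b = 0 ∧ ∀ x : M, a • x = 0 → ∃ y, b • y = x) :
    Module.Flat S M := by
  open TensorProduct in
  rw [Module.Flat.iff_rTensor_injective']
  intro J
  obtain ⟨a, b, rfl, hab, hdiv⟩ := hS J
  let a' : Ideal.span {a} := ⟨a, Ideal.mem_span_singleton_self a⟩
  rw [injective_iff_map_eq_zero]
  intro z hz
  obtain ⟨x, rfl⟩ : ∃ x : M, a' ⊗ₜ[S] x = z := by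
    clear hz
    induction z using TensorProduct.induction_on with
    | zero => exact ⟨0, TensorProduct.tmul_zero _ _⟩
    | tmul r m =>
      obtain ⟨s, hs⟩ := Ideal.mem_span_singleton'.1 r.2
      exact ⟨s • m, by rw [TensorProduct.tmul_smul, TensorProduct.smul_tmul',
        show s • a' = r from Subtype.ext (by simpa [a', smul_eq_mul] using hs)]⟩
    | add z₁ z₂ h₁ h₂ =>
      obtain ⟨⟨x₁, rfl⟩, ⟨x₂, rfl⟩⟩ := h₁, h₂
      exact ⟨x₁ + x₂, TensorProduct.tmul_add _ _ _⟩
  have hx : a • x = 0 := by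
    have h := congrArg (TensorProduct.lid S M) hz
    simpa [a'] using h
  obtain ⟨y, rfl⟩ := hdiv x hx
  rw [TensorProduct.tmul_smul, TensorProduct.smul_tmul',
    show b • a' = 0 from Subtype.ext (by simpa [a', smul_eq_mul, mul_comm] using hab), TensorProduct.zero_tmul]

include hI in
/-- A quotient by a level is flat over the truncated valuation ring. -/
theorem IsLevel.flat_quotient {R : Type u} [CommRing R] [IsDomain R] [IsPrincipalIdealRing R] {ϖ : R} (hp : Prime ϖ)
    (φ : R →+* B) (hφ : φ ϖ = t) (ψ : R ⧸ Ideal.span {ϖ} ^ (n + 1) →+* B ⧸ I)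
    (hψ : ∀ a, ψ (Ideal.Quotient.mk _ a) = Ideal.Quotient.mk I (φ a)) : ψ.Flat := by
  letI := ψ.toAlgebra
  show Module.Flat (R ⧸ Ideal.span {ϖ} ^ (n + 1)) (B ⧸ I)
  refine flat_of_principal fun J => ?_
  obtain ⟨r, hr⟩ := (IsPrincipalIdealRing.principal (J.comap (Ideal.Quotient.mk (Ideal.span {ϖ} ^ (n + 1))))).principal
  have hmem : ϖ ^ (n + 1) ∈ J.comap (Ideal.Quotient.mk (Ideal.span {ϖ} ^ (n + 1))) := by
    rw [Ideal.mem_comap, Ideal.Quotient.eq_zero_iff_mem.2 (Ideal.pow_mem_pow (Ideal.mem_span_singleton_self ϖ) _)]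
    exact zero_mem _
  rw [hr] at hmem
  obtain ⟨j, hj, hass⟩ := (dvd_prime_pow hp _).1 (Ideal.mem_span_singleton.1 hmem)
  have hzero : Ideal.Quotient.mk (Ideal.span {ϖ} ^ (n + 1)) (ϖ ^ (n + 1)) = 0 :=
    Ideal.Quotient.eq_zero_iff_mem.2 (Ideal.pow_mem_pow (Ideal.mem_span_singleton_self ϖ) _)
  refine ⟨Ideal.Quotient.mk _ (ϖ ^ j), Ideal.Quotient.mk _ (ϖ ^ (n + 1 - j)), ?_, ?_, fun x hx => ?_⟩
  · rw [← Ideal.map_comap_of_surjective _ Ideal.Quotient.mk_surjective J, hr, Ideal.submodule_span_eq,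
      Ideal.span_singleton_eq_span_singleton.2 hass, Ideal.map_span, Set.image_singleton]
  · rw [← map_mul, ← pow_add, show j + (n + 1 - j) = n + 1 by omega, hzero]
  · obtain ⟨c, rfl⟩ := Ideal.Quotient.mk_surjective x
    rw [Algebra.smul_def, RingHom.algebraMap_toAlgebra, hψ, ← map_mul, Ideal.Quotient.eq_zero_iff_mem, map_pow, hφ] at hx
    obtain ⟨i, hi, z, hz, hiz⟩ := Submodule.mem_sup.1 (hI.torsion_pow j hj c hx)
    obtain ⟨d, rfl⟩ := Ideal.mem_span_singleton'.1 hz
    refine ⟨Ideal.Quotient.mk I d, ?_⟩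
    rw [Algebra.smul_def, RingHom.algebraMap_toAlgebra, hψ, ← map_mul, map_pow, hφ, Ideal.Quotient.eq, ← hiz,
      show t ^ (n + 1 - j) * d - (i + d * t ^ (n + 1 - j)) = -i by ring]
    exact neg_mem hi

end Groth.Agent.EmbLift
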