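import Groth.Agent.EmbLift.Ring
import Groth.Agent.Conormal.Maps
import Groth.Agent.Conormal.BaseChange
import Groth.Agent.CohQC.QuasiAffine
import Groth.Prelude.Def_Mor2
import Mathlib

/-!
# Lifting a regularly embedded subscheme one step
-/
set_option autoImplicit false
set_option linter.style.haveILetI false
set_option backward.isDefEq.respectTransparency false
set_option backward.isDefEq.respectTransparency.types false
set_option maxHeartbeats 1000000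
universe u

open CategoryTheory CategoryTheory.Limits AlgebraicGeometry Opposite TopologicalSpace Abelian
open Groth.Agent.QC Groth.Agent.ModDesc Groth.Agent.Conormal
open RingTheory.Sequence

noncomputable section

namespace Groth.Agent.EmbLift

section PullClosed

variable {Z X : Scheme.{u}} (q : Z ⟶ X) [IsClosedImmersion q] (H : X.Modules) [Coh.IsQCoh H]

/-- Sections of the pullback to a closed subscheme over an affine open. -/
theorem pullSect_closed {U : X.Opens} (hU : IsAffineOpen U) :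
    Function.Surjective (OmegaSh.pullSect q H U) ∧
    ∀ s : Γ(H, U), OmegaSh.pullSect q H U s = 0 ↔
      s ∈ RingHom.ker (q.app U).hom • (⊤ : Submodule Γ(X, U) Γ(H, U)) := by
  letI : Algebra Γ(X, U) Γ(Z, q ⁻¹ᵁ U) := (q.appLE U (q ⁻¹ᵁ U) le_rfl).hom.toAlgebra
  obtain ⟨Φ, hΦ⟩ := exists_bijective_liftBaseChange q H hU (hU.preimage q) le_rfl
  have hcl : ∀ s, Φ (1 ⊗ₜ s) = OmegaSh.pullSect q H U s := fun s => by
    rw [hΦ, pullSectLE_apply, res_self]
  have halg : algebraMap Γ(X, U) Γ(Z, q ⁻¹ᵁ U) = (q.app U).hom := by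
    rw [RingHom.algebraMap_toAlgebra, Scheme.Hom.app_eq_appLE]
  have hsurj : Function.Surjective (algebraMap Γ(X, U) Γ(Z, q ⁻¹ᵁ U)) := by
    rw [halg]; exact q.app_surjective U hU
  constructor
  · intro c
    obtain ⟨x, rfl⟩ := Φ.surjective c
    induction x with
    | zero => exact ⟨0, by simp⟩
    | add a b ha hb =>
      obtain ⟨sa, hsa⟩ := ha
      obtain ⟨sb, hsb⟩ := hb
      exact ⟨sa + sb, by rw [map_add, map_add, hsa, hsb]⟩
    | tmul r s =>
      obtain ⟨a, rfl⟩ := hsurj r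
      refine ⟨a • s, ?_⟩
      rw [← hcl, TensorProduct.tmul_smul, TensorProduct.smul_tmul', Algebra.smul_def, mul_one]
  · intro s
    rw [← hcl]
    refine Iff.trans (map_eq_zero_iff Φ Φ.injective) ?_
    let J := RingHom.ker (algebraMap Γ(X, U) Γ(Z, q ⁻¹ᵁ U))
    let e : (Γ(X, U) ⧸ J) ≃ₐ[Γ(X, U)] Γ(Z, q ⁻¹ᵁ U) :=
      Ideal.quotientKerAlgEquivOfSurjective (f := Algebra.ofId Γ(X, U) Γ(Z, q ⁻¹ᵁ U)) hsurj
    let E := (TensorProduct.congr e.toLinearEquiv (LinearEquiv.refl Γ(X, U) Γ(H, U))).symm ≪≫ₗ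
      TensorProduct.quotTensorEquivQuotSMul Γ(H, U) J
    have hE : E (1 ⊗ₜ s) = Submodule.Quotient.mk s := by
      simp only [E, LinearEquiv.trans_apply, TensorProduct.congr_symm_tmul]
      rw [show e.toLinearEquiv.symm 1 = Ideal.Quotient.mk J 1 from (map_one e.symm)]
      simp [TensorProduct.quotTensorEquivQuotSMul_mk_tmul]
    rw [← EmbeddingLike.map_eq_zero_iff (f := E), hE, Submodule.Quotient.mk_eq_zero]
    simp only [J, halg]

end PullClosed

/-- Sections of an ideal sheaf over an affine open. -/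
theorem exists_idealSect_affine {X : Scheme.{u}} (I : X.IdealSheafData) (U : X.affineOpens) (y : Γ(X, U.1))
    (hy : y ∈ I.ideal U) : ∃ s, OmegaSh.idealSect I U.1 s = y :=
  (mem_range_idealModι_affine I U y).2 hy

theorem idealSect_mem {X : Scheme.{u}} (I : X.IdealSheafData) (U : X.affineOpens) (s : Γ(ClSub.idealMod I, U.1)) :
    OmegaSh.idealSect I U.1 s ∈ I.ideal U :=
  (mem_range_idealModι_affine I U _).1 ⟨s, rfl⟩

/-- Products with an ideal sheaf. -/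
theorem mem_smul_top_iff {X : Scheme.{u}} (I : X.IdealSheafData) (U : X.affineOpens) (a : Ideal Γ(X, U.1))
    (s : Γ(ClSub.idealMod I, U.1)) :
    s ∈ a • (⊤ : Submodule Γ(X, U.1) Γ(ClSub.idealMod I, U.1)) ↔ OmegaSh.idealSect I U.1 s ∈ a * I.ideal U := by
  let ι : Γ(ClSub.idealMod I, U.1) →ₗ[Γ(X, U.1)] Γ(X, U.1) :=
    { toFun := OmegaSh.idealSect I U.1
      map_add' := map_add _
      map_smul' := fun b x => idealSect_smul I U.1 b x }
  have hr : LinearMap.range ι = I.ideal U := by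
    ext t
    exact ⟨fun ⟨x, hx⟩ => hx ▸ idealSect_mem I U x, fun ht => exists_idealSect_affine I U t ht⟩
  have hm : Submodule.map ι (a • ⊤) = a * I.ideal U := by
    rw [Submodule.map_smul'', Submodule.map_top, hr, smul_eq_mul]
  rw [← hm]
  exact ⟨fun hs => Submodule.mem_map_of_mem hs, fun ⟨x, hx, he⟩ => idealSect_injective I U.1 he ▸ hx⟩

variable {P P₀ X₀ : Scheme.{u}} (π₀ : P₀ ⟶ P) [IsClosedImmersion π₀] (t : Γ(P, ⊤))

/-- A closed subscheme cut out by a nowhere dividing zero function. -/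
structure IsCut : Prop where
  app_top : π₀.app ⊤ t = 0
  ker_app : ∀ U : P.affineOpens, RingHom.ker (π₀.app U.1).hom = Ideal.span {resO P le_top t}
  regular : ∀ (U : P.affineOpens) (b : Γ(P, U.1)), resO P le_top t * b = 0 → b = 0

variable (ι₀ : X₀ ⟶ P₀)

/-- A lift of the subscheme modulo `t^(n+1)`. -/
def IsLift (n : ℕ) (I : P.IdealSheafData) : Prop :=
  ∀ U : P.affineOpens, IsLevel ((ι₀ ≫ π₀).ker.ideal U) (resO P le_top t) n (I.ideal U)

variable {π₀ t ι₀} (hcut : IsCut π₀ t) [IsClosedImmersion ι₀]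

theorem ideal_eq_ker (U : P.affineOpens) :
    (ι₀ ≫ π₀).ker.ideal U = RingHom.ker ((ι₀ ≫ π₀).app U.1).hom := Scheme.Hom.ker_apply _ U

theorem ideal_eq_comap (U : P.affineOpens) :
    (ι₀ ≫ π₀).ker.ideal U = (RingHom.ker (ι₀.app (π₀ ⁻¹ᵁ U.1)).hom).comap (π₀.app U.1).hom := by
  rw [ideal_eq_ker, Scheme.Hom.comp_app, CommRingCat.hom_comp, RingHom.comap_ker]

theorem map_ideal_eq (U : P.affineOpens) :
    ((ι₀ ≫ π₀).ker.ideal U).map (π₀.app U.1).hom = RingHom.ker (ι₀.app (π₀ ⁻¹ᵁ U.1)).hom := by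
  rw [ideal_eq_comap, Ideal.map_comap_of_surjective _ (π₀.app_surjective U.1 U.2)]

include hcut in
theorem isLift_zero : IsLift π₀ t ι₀ 0 (ι₀ ≫ π₀).ker := fun U => isLevel_zero (by
  rw [ideal_eq_comap, Ideal.mem_comap]
  have h : π₀.app U.1 (resO P le_top t) = 0 :=
    RingHom.mem_ker.1 ((hcut.ker_app U).ge (Ideal.mem_span_singleton_self _))
  change (π₀.app U.1).hom _ ∈ _
  rw [h]
  exact zero_mem _)

/-- Near every point of the subscheme, small affine opens carry a regular sequence. -/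
theorem exists_basis_regular (hreg : Mor2.IsRegularClosedImmersion ι₀) :
    IsBasisFam {V | ∃ U : P.affineOpens, (ι₀ ≫ π₀) ⁻¹ᵁ U.1 = V ∧ ∃ gs : List Γ(P₀, π₀ ⁻¹ᵁ U.1),
      IsWeaklyRegular Γ(P₀, π₀ ⁻¹ᵁ U.1) gs ∧ RingHom.ker (ι₀.app (π₀ ⁻¹ᵁ U.1)).hom = Ideal.ofList gs} := by
  intro O z hz
  obtain ⟨U₀, hU₀, hzU₀, rs, hrs, hker⟩ := hreg.2 z
  obtain ⟨O₁, hO₁, hpre⟩ := π₀.isEmbedding.isInducing.isOpen_iff.mp U₀.2
  have hz₁ : π₀ (ι₀ z) ∈ O₁ := by
    have h : ι₀ z ∈ ⇑π₀ ⁻¹' O₁ := by rw [hpre]; exact hzU₀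
    exact h
  obtain ⟨U, hU, hzU, hUO, hle⟩ := exists_chart_le (ι₀ ≫ π₀) z O hz ⟨O₁, hO₁⟩ hz₁
  have hW : π₀ ⁻¹ᵁ U ≤ U₀ := fun x hx => by
    have h : x ∈ ⇑π₀ ⁻¹' O₁ := hUO hx
    rw [hpre] at h
    exact h
  refine ⟨_, ⟨⟨U, hU.affine⟩, rfl, rs.map (resO P₀ hW), ?_, ?_⟩, hle, hzU⟩
  · letI : Algebra Γ(P₀, U₀) Γ(P₀, π₀ ⁻¹ᵁ U) := (resO P₀ hW).toAlgebra
    haveI : Module.Flat Γ(P₀, U₀) Γ(P₀, π₀ ⁻¹ᵁ U) := by
      have h := HasRingHomProperty.appLE (P := @Flat) (𝟙 P₀) inferInstance ⟨_, hU₀⟩ ⟨_, hU.affine.preimage π₀⟩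
        (by simpa using hW)
      rw [Scheme.Hom.appLE, Scheme.Hom.id_app] at h
      refine RingHom.flat_algebraMap_iff.1 ?_
      show (resO P₀ hW).Flat
      simpa using h
    exact hrs.toIsWeaklyRegular.of_flat
  · rw [← Scheme.Hom.ker_apply ι₀ ⟨_, hU.affine.preimage π₀⟩,
      ← Scheme.IdealSheafData.map_ideal ι₀.ker (U := ⟨_, hU.affine.preimage π₀⟩) (V := ⟨U₀, hU₀⟩) hW, hker,
      Ideal.map_ofList]
    rfl

section Next

variable {n : ℕ} {I : P.IdealSheafData} (hI : IsLift π₀ t ι₀ n I)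

include hI in
theorem le_ker : I ≤ (ι₀ ≫ π₀).ker := fun U => (hI U).le

include hI in
theorem exists_top_sect :
    ∃ σ : Γ(ClSub.idealMod I, ⊤), OmegaSh.idealSect I ⊤ σ = t ^ (n + 1) := by
  refine (mem_range_idealModι I ⊤ _).mpr ?_
  refine TopCat.Presheaf.IsSheaf.section_ext I.subscheme.sheaf.2 fun p hp => ?_
  obtain ⟨_, ⟨U₁, hU₁, rfl⟩, hpU, -⟩ := P.isBasis_affineOpens.exists_subset_of_mem_open
    (show I.subschemeι p ∈ (Set.univ : Set P) from trivial) isOpen_univ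
  let U : P.affineOpens := ⟨U₁, hU₁⟩
  refine ⟨I.subschemeι ⁻¹ᵁ U.1, fun x _ => trivial, hpU, ?_⟩
  rw [map_zero]
  refine (ConcreteCategory.congr_hom (I.subschemeι.naturality (homOfLE (le_top : U.1 ≤ ⊤)).op) _).symm.trans ?_
  rw [ConcreteCategory.comp_apply]
  refine RingHom.mem_ker.1 (show _ ∈ RingHom.ker (I.subschemeι.app U.1).hom from ?_)
  rw [I.ker_subschemeι_app]
  have h := (hI U).pow_mem
  rwa [← map_pow] at h

/-- A sub-ideal of the kernel vanishes on the subscheme. -/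
theorem app_idealSect_of_le {Y Z : Scheme.{u}} (c : Z ⟶ Y) [IsClosedImmersion c] (J : Y.IdealSheafData) (h : J ≤ c.ker)
    (O : Y.Opens) (a : Γ(ClSub.idealMod J, O)) : c.app O (OmegaSh.idealSect J O a) = 0 := by
  have key : ∀ e : Z ⟶ Y, IsClosedImmersion.lift J.subschemeι c (by rwa [J.ker_subschemeι]) ≫ J.subschemeι = e →
      e.app O (OmegaSh.idealSect J O a) = 0 := by
    rintro e rfl
    rw [Scheme.Hom.comp_app, ConcreteCategory.comp_apply,
      show J.subschemeι.app O (OmegaSh.idealSect J O a) = 0 from (mem_range_idealModι J O _).mp ⟨a, rfl⟩, map_zero]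
  exact key c (IsClosedImmersion.lift_fac _ _ _)

include hI in
/-- The reduction of a lift to the conormal sheaf. -/
theorem exists_toConormal :
    ∃ (α : ∀ O : P.Opens, Γ(ClSub.idealMod I, O) → Γ(ClSub.idealMod ι₀.ker, π₀ ⁻¹ᵁ O))
      (g : (Scheme.Modules.pullback (ι₀ ≫ π₀)).obj (ClSub.idealMod I) ⟶ Omega.conormal ι₀),
      (∀ O s, OmegaSh.idealSect ι₀.ker (π₀ ⁻¹ᵁ O) (α O s) = π₀.app O (OmegaSh.idealSect I O s)) ∧
      ∀ O s, g.app ((ι₀ ≫ π₀) ⁻¹ᵁ O) (OmegaSh.pullSect (ι₀ ≫ π₀) (ClSub.idealMod I) O s) =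
        OmegaSh.conormalSect ι₀ (π₀ ⁻¹ᵁ O) (α O s) := by
  have h0 : ∀ O a, ι₀.app (π₀ ⁻¹ᵁ O) (π₀.app O (OmegaSh.idealSect I O a)) = 0 := fun O a => by
    have h := app_idealSect_of_le (ι₀ ≫ π₀) I (le_ker hI) O a
    rw [Scheme.Hom.comp_app, ConcreteCategory.comp_apply] at h
    exact h
  obtain ⟨α, hα⟩ := exists_lift_of_range ((Scheme.Modules.pushforward π₀).map (ClSub.idealModι ι₀.ker))
    (ClSub.idealModι I ≫ ClSub.unitToPush π₀) (fun O a => by
      obtain ⟨s, hs⟩ := exists_idealSect ι₀ _ _ (h0 O a)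
      exact ⟨s, hs⟩)
  let β : ClSub.idealMod I ⟶ (Scheme.Modules.pushforward (ι₀ ≫ π₀)).obj (Omega.conormal ι₀) :=
    α ≫ (Scheme.Modules.pushforward π₀).map
        ((Scheme.Modules.pullbackPushforwardAdjunction ι₀).unit.app (ClSub.idealMod ι₀.ker)) ≫
      (Scheme.Modules.pushforwardComp ι₀ π₀).hom.app (Omega.conormal ι₀)
  let adj := Scheme.Modules.pullbackPushforwardAdjunction (ι₀ ≫ π₀)
  refine ⟨fun O => α.app O, (adj.homEquiv _ _).symm β, fun O s => congr(($hα).app O s), fun O s => ?_⟩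
  have a1 := (adj.homEquiv _ _).apply_symm_apply β
  rw [Adjunction.homEquiv_unit] at a1
  exact congr(($a1).app O s)

include hcut hI in
/-- The conormal sequence of a lift. -/
theorem exists_shortExact (hreg : Mor2.IsRegularClosedImmersion ι₀) :
    ∃ (σ : Γ(ClSub.idealMod I, ⊤)) (g : (Scheme.Modules.pullback (ι₀ ≫ π₀)).obj (ClSub.idealMod I) ⟶ Omega.conormal ι₀)
      (w : CohQC.secHom (F := (Scheme.Modules.pullback (ι₀ ≫ π₀)).obj (ClSub.idealMod I)) (OmegaSh.pullSect (ι₀ ≫ π₀) (ClSub.idealMod I) ⊤ σ) ≫ g = 0),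
      OmegaSh.idealSect I ⊤ σ = t ^ (n + 1) ∧ (ShortComplex.mk _ g w).ShortExact := by
  let c₀ := ι₀ ≫ π₀
  haveI : Coh.IsQCoh (ClSub.idealMod I) := isQCoh_idealMod _
  obtain ⟨σ, hσ⟩ := exists_top_sect hI
  obtain ⟨α, g, hα', hg⟩ := exists_toConormal hI
  let ε : Γ((Scheme.Modules.pullback c₀).obj (ClSub.idealMod I), ⊤) := OmegaSh.pullSect c₀ (ClSub.idealMod I) ⊤ σ
  have h1 : g.app ⊤ ε = 0 := by
    refine (hg ⊤ σ).trans ?_
    rw [show α ⊤ σ = 0 from idealSect_injective ι₀.ker _ (by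
      rw [hα', hσ, map_zero, map_pow, hcut.app_top, zero_pow (Nat.succ_ne_zero n)]), map_zero]
  have hval : ∀ (V : X₀.Opens) (r : Γ(X₀, V)),
      (CohQC.secHom ε).app V (show Γ(Coh.structureModule X₀, V) from r) = r • res _ le_top ε :=
    fun V r => CohQC.secHom_app ε V r
  have w : CohQC.secHom ε ≫ g = 0 := by
    apply Scheme.Modules.hom_ext
    intro V
    ext r
    rw [Scheme.Modules.Hom.comp_app, ConcreteCategory.comp_apply, hval V r, Scheme.Modules.Hom.app_smul, ← app_res, h1,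
      map_zero, smul_zero]
    rfl
  have hres : ∀ O : P.Opens, res ((Scheme.Modules.pullback c₀).obj (ClSub.idealMod I)) (le_top : c₀ ⁻¹ᵁ O ≤ ⊤) ε =
      OmegaSh.pullSect c₀ (ClSub.idealMod I) O (res _ le_top σ) :=
    fun O => (OmegaSh.pullSect_map c₀ _ le_top σ).symm
  have hσU : ∀ U : P.affineOpens, OmegaSh.idealSect I U.1 (res _ le_top σ) = resO P le_top t ^ (n + 1) := fun U => by
    rw [idealSect_res, hσ, map_pow]
  refine ⟨σ, g, w, hσ, shortExact_of_basis _ (exists_basis_regular (π₀ := π₀) hreg) ?_ ?_ ?_⟩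
  · rintro _ ⟨U, rfl, gs, hgs, hgker⟩
    refine (injective_iff_map_eq_zero _).2 fun r hr => ?_
    obtain ⟨b, rfl⟩ := c₀.app_surjective U.1 U.2 r
    rw [hval _ (c₀.app U.1 b), hres, ← OmegaSh.pullSect_smul] at hr
    have h := ((pullSect_closed c₀ (ClSub.idealMod I) U.2).2 _).1 hr
    rw [mem_smul_top_iff I U, idealSect_smul, hσU, ← ideal_eq_ker, mul_comm b] at h
    have hb := (hI U).mem_of_pow_mul_mem (π₀.app_surjective U.1 U.2) (hcut.ker_app U) (hcut.regular U) gs hgs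
      ((map_ideal_eq U).trans hgker) b h
    rw [ideal_eq_ker] at hb
    exact hb
  · rintro _ ⟨U, rfl, -⟩ x hx
    obtain ⟨s, rfl⟩ := (pullSect_closed c₀ (ClSub.idealMod I) U.2).1 x
    have hW : IsChart ι₀ (π₀ ⁻¹ᵁ U.1) := ⟨U.2.preimage π₀, IsZariskiLocalAtTarget.restrict (P := @IsClosedImmersion) inferInstance _⟩
    have h2 := (conormalSect_eq_zero_iff ι₀ hW _).1 ((hg U.1 s).symm.trans hx)
    rw [hα', ← map_ideal_eq] at h2
    obtain ⟨b, hb⟩ := (hI U).middle (π₀.app_surjective U.1 U.2) (hcut.ker_app U) _ (idealSect_mem I U s) h2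
    refine ⟨c₀.app U.1 b, ?_⟩
    rw [hval _ (c₀.app U.1 b), hres, ← OmegaSh.pullSect_smul, ← sub_eq_zero, ← map_sub,
      (pullSect_closed c₀ (ClSub.idealMod I) U.2).2, mem_smul_top_iff I U, map_sub, idealSect_smul, hσU, ← ideal_eq_ker,
      ← neg_sub, mul_comm b]
    exact neg_mem hb
  · rintro _ ⟨U, rfl, -⟩ y
    have hW : IsChart ι₀ (π₀ ⁻¹ᵁ U.1) := ⟨U.2.preimage π₀, IsZariskiLocalAtTarget.restrict (P := @IsClosedImmersion) inferInstance _⟩
    obtain ⟨w, rfl⟩ := conormalSect_surjective ι₀ hW y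
    have hw : OmegaSh.idealSect ι₀.ker (π₀ ⁻¹ᵁ U.1) w ∈ (c₀.ker.ideal U).map (π₀.app U.1).hom := by
      rw [map_ideal_eq]
      exact app_idealSect ι₀ _ w
    obtain ⟨x, hx, hxw⟩ := (Ideal.mem_map_iff_of_surjective _ (π₀.app_surjective U.1 U.2)).1 hw
    rw [← (hI U).sup_eq] at hx
    obtain ⟨y', hy', z, hz, rfl⟩ := Submodule.mem_sup.1 hx
    rw [map_add, RingHom.mem_ker.1 ((hcut.ker_app U).ge hz), add_zero] at hxw
    obtain ⟨s, rfl⟩ := exists_idealSect_affine I U y' hy'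
    refine ⟨OmegaSh.pullSect c₀ (ClSub.idealMod I) U.1 s, (hg U.1 s).trans ?_⟩
    rw [idealSect_injective ι₀.ker _ ((hα' U.1 s).trans hxw)]

include hcut hI in
/-- A lift can be continued when the first extension group of the conormal sheaf vanishes. -/
theorem exists_next (hreg : Mor2.IsRegularClosedImmersion ι₀) [HasExt.{u} X₀.Modules]
    (hext : Subsingleton (Ext.{u} (Omega.conormal ι₀) (Coh.structureModule X₀) 1)) :
    ∃ I' : P.IdealSheafData, IsLift π₀ t ι₀ (n + 1) I' ∧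
      ∀ U : P.affineOpens, I'.ideal U ⊔ Ideal.span {resO P le_top t ^ (n + 1)} = I.ideal U := by
  let c₀ := ι₀ ≫ π₀
  haveI : Coh.IsQCoh (ClSub.idealMod I) := isQCoh_idealMod _
  obtain ⟨σ, g, w, hσ, hS⟩ := exists_shortExact hcut hI hreg
  let S := ShortComplex.mk _ g w
  obtain ⟨x, hx⟩ := Ext.contravariant_sequence_exact₁ hS _ (Ext.mk₀ (𝟙 (Coh.structureModule X₀))) (add_zero 1)
    (@Subsingleton.elim _ hext _ _)
  obtain ⟨r, rfl⟩ := (Ext.mk₀_bijective _ _).2 x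
  rw [Ext.mk₀_comp_mk₀] at hx
  have hr : S.f ≫ r = 𝟙 _ := (Ext.mk₀_bijective _ _).1 hx
  let ρ : ∀ U : P.Opens, Γ(ClSub.idealMod I, U) →+ Γ(X₀, c₀ ⁻¹ᵁ U) := fun U =>
    ((OmegaSh.fnSect X₀ (c₀ ⁻¹ᵁ U)).comp (r.app (c₀ ⁻¹ᵁ U)).hom).comp (OmegaSh.pullSect c₀ (ClSub.idealMod I) U).hom
  have hρsmul : ∀ (U : P.Opens) (a : Γ(P, U)) s, ρ U (a • s) = c₀.app U a * ρ U s := fun U a s => by
    show r.app _ (OmegaSh.pullSect c₀ _ U (a • s)) = _
    rw [OmegaSh.pullSect_smul, Scheme.Modules.Hom.app_smul]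
    rfl
  have hρres : ∀ {U V : P.Opens} (h : V ≤ U) s, ρ V (res _ h s) = resO X₀ (c₀.preimage_mono h) (ρ U s) :=
    fun {U V} h s => by
      show r.app _ (OmegaSh.pullSect c₀ _ V (res _ h s)) = _
      exact (congrArg (r.app _) (OmegaSh.pullSect_map c₀ _ h s)).trans (app_res r (c₀.preimage_mono h) _).symm
  have hρσ : ∀ U : P.Opens, ρ U (res _ le_top σ) = 1 := fun U => by
    show r.app _ (OmegaSh.pullSect c₀ _ U (res _ le_top σ)) = _
    have h := CohQC.secHom_app_one (F := (Scheme.Modules.pullback c₀).obj (ClSub.idealMod I))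
      (OmegaSh.pullSect c₀ (ClSub.idealMod I) ⊤ σ) (c₀ ⁻¹ᵁ U)
    exact (congrArg (r.app _) ((OmegaSh.pullSect_map c₀ _ le_top σ).trans h.symm)).trans congr(($hr).app (c₀ ⁻¹ᵁ U) (1 : Γ(X₀, c₀ ⁻¹ᵁ U)))
  let J : ∀ U : P.affineOpens, Ideal Γ(P, U.1) := fun U =>
    { carrier := {y | ∃ s, OmegaSh.idealSect I U.1 s = y ∧ ρ U.1 s = 0}
      add_mem' := fun {a b} ⟨s, hs, hs'⟩ ⟨s', hs₂, hs₂'⟩ =>
        ⟨s + s', by rw [map_add, hs, hs₂], by rw [map_add, hs', hs₂', add_zero]⟩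
      zero_mem' := ⟨0, map_zero _, map_zero _⟩
      smul_mem' := fun a y ⟨s, hs, hs'⟩ => ⟨a • s, by rw [idealSect_smul, hs, smul_eq_mul],
        by rw [hρsmul, hs', mul_zero]⟩ }
  have hσU : ∀ U : P.affineOpens, OmegaSh.idealSect I U.1 (res _ le_top σ) = resO P le_top t ^ (n + 1) := fun U => by
    rw [idealSect_res, hσ, map_pow]
  have hmap' : ∀ (U W : P.affineOpens) (f : Γ(P, U.1)) (h : W.1 ≤ U.1), W.1 = P.basicOpen f →
      (J U).map (resO P h) = J W := by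
    intro U W f h hW
    refine le_antisymm (Ideal.map_le_iff_le_comap.2 fun y ⟨s, hs, hs'⟩ =>
      ⟨res _ h s, by rw [idealSect_res, hs], by rw [hρres, hs', map_zero]⟩) ?_
    rintro y ⟨s', rfl, hs'⟩
    have hmem : OmegaSh.idealSect I W.1 s' ∈ (I.ideal U).map (resO P h) := by
      have h' := idealSect_mem I W s'
      rw [← I.map_ideal (U := W) (V := U) h] at h'
      exact h'
    letI : Algebra Γ(P, U.1) Γ(P, W.1) := (resO P h).toAlgebra
    haveI : IsLocalization.Away f Γ(P, W.1) := U.2.isLocalization_of_eq_basicOpen f (homOfLE h) hW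
    have halg : resO P h = algebraMap Γ(P, U.1) Γ(P, W.1) := rfl
    rw [halg] at hmem ⊢
    rw [IsLocalization.mem_map_algebraMap_iff (Submonoid.powers f)] at hmem ⊢
    obtain ⟨⟨⟨y, hy⟩, ⟨_, k, rfl⟩⟩, he⟩ := hmem
    dsimp only at he
    obtain ⟨s, hs⟩ := exists_idealSect_affine I U y hy
    have hs2 : res _ h s = (resO P h (f ^ k)) • s' := by
      refine idealSect_injective I _ ?_
      rw [idealSect_res I h s, idealSect_smul, hs]
      exact he.symm.trans (mul_comm _ _)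
    have hzero : resO X₀ (c₀.preimage_mono h) (ρ U.1 s) = 0 := by
      rw [← hρres h s, hs2, hρsmul, hs', mul_zero]
    letI : Algebra Γ(X₀, c₀ ⁻¹ᵁ U.1) Γ(X₀, c₀ ⁻¹ᵁ W.1) := (resO X₀ (c₀.preimage_mono h)).toAlgebra
    haveI : IsLocalization.Away (c₀.app U.1 f) Γ(X₀, c₀ ⁻¹ᵁ W.1) :=
      (U.2.preimage c₀).isLocalization_of_eq_basicOpen (c₀.app U.1 f) (homOfLE (c₀.preimage_mono h))
        ((congrArg (fun V => c₀ ⁻¹ᵁ V) hW).trans (Scheme.preimage_basicOpen c₀ f))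
    obtain ⟨⟨_, l, rfl⟩, hl⟩ := (IsLocalization.map_eq_zero_iff (Submonoid.powers (c₀.app U.1 f))
      Γ(X₀, c₀ ⁻¹ᵁ W.1) (ρ U.1 s)).1 hzero
    refine ⟨⟨⟨f ^ l * y, f ^ l • s, by rw [idealSect_smul, hs], by rw [hρsmul, map_pow]; exact hl⟩,
      ⟨f ^ (l + k), l + k, rfl⟩⟩, ?_⟩
    dsimp only
    rw [map_mul, ← he, pow_add, map_mul]
    ring
  have hmap : ∀ (U : P.affineOpens) (f : Γ(P, U.1)),
      (J U).map (P.presheaf.map (homOfLE <| P.basicOpen_le f).op).hom = J (P.affineBasicOpen f) := fun U f =>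
    hmap' U (P.affineBasicOpen f) f (P.basicOpen_le f) rfl
  have hsup : ∀ U : P.affineOpens, J U ⊔ Ideal.span {resO P le_top t ^ (n + 1)} = I.ideal U := fun U => by
    refine le_antisymm (sup_le (fun y ⟨s, hs, _⟩ => hs ▸ idealSect_mem I U s)
      ((Ideal.span_singleton_le_iff_mem _).2 (hI U).pow_mem)) fun y hy => ?_
    obtain ⟨s, rfl⟩ := exists_idealSect_affine I U y hy
    obtain ⟨b, hb⟩ := c₀.app_surjective U.1 U.2 (ρ U.1 s)
    refine Submodule.mem_sup.2 ⟨_, ⟨s - b • res _ le_top σ, rfl, by rw [map_sub, hρsmul, hρσ, mul_one, hb, sub_self]⟩,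
      b * resO P le_top t ^ (n + 1), Ideal.mul_mem_left _ _ (Ideal.mem_span_singleton_self _), ?_⟩
    rw [map_sub, idealSect_smul, hσU]
    ring
  refine ⟨⟨J, hmap, _, rfl⟩, fun U => ?_, hsup⟩
  refine (hI U).next (fun y ⟨s, hs, _⟩ => hs ▸ idealSect_mem I U s) ⟨resO P le_top t • res _ le_top σ,
    by rw [idealSect_smul, hσU, ← pow_succ'], ?_⟩ (hsup U) fun h ⟨s, hs, hs'⟩ => ?_
  · rw [hρsmul, hρσ, mul_one, ← RingHom.mem_ker, ← ideal_eq_ker]
    exact (hI U).t_mem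
  · have hs2 : s = h • res _ le_top σ := idealSect_injective I _ (by rw [hs, idealSect_smul, hσU, mul_comm])
    rw [hs2, hρsmul, hρσ, mul_one] at hs'
    rw [ideal_eq_ker]
    exact RingHom.mem_ker.2 hs'

end Next

end Groth.Agent.EmbLift
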